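import Cfsg.Agent.Lib.Helper5.F7.H17.FrCDefs
import Cfsg.Agent.Lib.Helper5.F7.H15.FrCS
import Cfsg.Agent.Lib.Helper5.F7.H1.FrCGram
import Cfsg.Agent.Lib.Helper5.F7.H6.FrCD2

/-!
helper15: CORE13 (S5679 + S5696) leaf H1 `win3_of_nonspecial` of notes/S5679_core_leaves.lean, exact signature
(on helper1's Gram toolkit `FrCGram`, helper6's `order_pair`, my block S).  By-products: `rt_of_transU'` (G1),
`sum_sq_supp`, `not_isB_of_nonspecial`.
-/

set_option autoImplicit false
set_option linter.unusedSectionVars false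
set_option linter.unusedVariables false

namespace Cfsg.Agent.Lib.Helper5.F7.H15.FrCLeaf

open Module QuadraticMap Matrix Cfsg.Agent.Lib.Helper25.CD Cfsg.Agent.Lib.Helper25.Spin
  Cfsg.Agent.Lib.Helper5.NSMax Cfsg.Agent.Lib.Helper5.PairMax Cfsg.Agent.Lib.Helper17.OC2
  Cfsg.Agent.Lib.Helper29.FrStd Cfsg.Agent.Lib.Helper11.Mono Cfsg.Agent.Lib.Helper5.F7.H17.FrC

variable {κ : Type} [Fintype κ] [DecidableEq κ] {F : Type*} [Field F] [Fintype F]
  {c : F} {M : Subgroup ↥(Cfsg.isometryGroup F ⇑(stdQ κ F c))}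

/-- G1 (local copy): transitivity on `U` transports roots -/
theorem rt_of_transU' (h : Ctx c M) {U : Submodule F (κ → F)} (hU : TransU c M U) {u v : κ → F} (hu : u ∈ U)
    (hv : v ∈ U) (hru : Rt c M u) (hv1 : v ⬝ᵥ v = 1) : Rt c M v := by
  obtain ⟨g, hg, hgu, _⟩ := hU u hu v hv (by rw [hru.1, hv1]) (by rw [hru.1]; exact one_ne_zero)
  rw [← hgu]
  exact rt_conj h hg hru

/-- the sum of the squares over the support -/
lemma sum_sq_supp (b : κ → F) : ∑ l ∈ supp b, b l ^ 2 = b ⬝ᵥ b := by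
  classical
  unfold dotProduct
  rw [← Finset.sum_subset (Finset.subset_univ (supp b))]
  · apply Finset.sum_congr rfl
    intro l _
    ring
  · intro l _ hl
    rw [mem_supp, not_not] at hl
    rw [hl, mul_zero]

/-- a vector of type `B` has only special squares of coordinates -/
lemma not_isB_of_nonspecial {b : κ → F} {i : κ} (hi : ¬ Sp (b i ^ 2)) : ¬ IsB b := by
  intro hB
  apply hi
  rcases hB with ⟨i', hi' | hi'⟩ | ⟨i', j', _, h1, h2, h3⟩
  · by_cases hii : i = i'
    · right; left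
      rw [hi', hii]
      simp [e]
    · left
      rw [hi']
      simp [e, hii]
  · by_cases hii : i = i'
    · right; left
      rw [hi', hii]
      simp [e]
    · left
      rw [hi']
      simp [e, hii]
  · by_cases hii : i = i'
    · right; right; right; left
      rw [hii]; exact h1
    · by_cases hij : i = j'
      · right; right; right; left
        rw [hij]; exact h2
      · left
        rw [h3 i hii hij]
        ring

/-- H1. -/
theorem win3_of_nonspecial (h : Ctx c M) (h5 : 5 ≤ Fintype.card F)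
    (hL1 : ∀ (T : Finset κ), T.card = 3 → ∀ x : κ → F, Rt c M x → x ∈ VT T → ¬ IsB x → Win3 c M)
    (hL2 : ∀ (a : κ → F) (m : κ), Rt c M a → (a m = 1 ∨ a m = -1) → a ≠ e m → a ≠ -e m → Win3 c M)
    (hL3 : ∀ (a : κ → F) (T : Finset κ), Rt c M a → ∑ l ∈ T, a l ^ 2 = 0 → (∃ l ∈ T, a l ≠ 0) →
      (∃ l, l ∉ T ∧ a l ≠ 0) → Win3 c M)
    (hD : ∀ (R : Set (κ → F)), (∀ x ∈ R, Rt c M x) → ∀ U : Submodule F (κ → F), U = Submodule.span F R →
      finrank F U = 3 → (∀ u ∈ U, (∀ v ∈ U, u ⬝ᵥ v = 0) → u = 0) →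
      (∀ w ∈ U, w ≠ 0 → ∃ x ∈ R, x ⬝ᵥ w ≠ 0 ∧ w ∉ Submodule.span F {x}) → TransU c M U ∨ Small c R U)
    {b : κ → F} (hb : Rt c M b) {i : κ} (hi : ¬ Sp (b i ^ 2)) : Win3 c M := by
  classical
  have hbi0 : b i ≠ 0 := by
    intro h0
    apply hi
    left
    rw [h0]; ring
  have hsum : ∑ l ∈ supp b, b l ^ 2 = 1 := by rw [sum_sq_supp, hb.1]
  have hisupp : i ∈ supp b := mem_supp.2 hbi0
  by_cases hs : (supp b).card ≤ 3
  · -- small support: L1
    obtain ⟨T, hT1, hT2⟩ := Finset.exists_superset_card_eq hs (by rw [h.card]; norm_num)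
    refine hL1 T hT2 b hb ?_ (not_isB_of_nonspecial hi)
    intro l hl
    by_contra hne
    exact hl (hT1 (mem_supp.2 hne))
  · push Not at hs
    by_cases hall : ∀ j ∈ supp b, j ≠ i → b j ^ 2 = 1 - b i ^ 2
    · -- zero-sum subset: L3
      have hcard1 : 1 < (supp b).card := by omega
      obtain ⟨j, hj, hji⟩ := Finset.exists_mem_ne hcard1 i
      set T' := ((supp b).erase i).erase j with hT'
      have hjmem : j ∈ (supp b).erase i := Finset.mem_erase.2 ⟨hji, hj⟩
      have hsumT : ∑ l ∈ T', b l ^ 2 = 0 := by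
        have e1 := Finset.add_sum_erase (supp b) (fun l => b l ^ 2) hisupp
        have e2 := Finset.add_sum_erase ((supp b).erase i) (fun l => b l ^ 2) hjmem
        rw [hsum] at e1
        rw [← e2, hall j hj hji] at e1
        linear_combination e1
      have hcardT : 2 ≤ T'.card := by
        rw [hT', Finset.card_erase_of_mem hjmem, Finset.card_erase_of_mem hisupp]
        omega
      have hne : T'.Nonempty := Finset.card_pos.1 (by omega)
      obtain ⟨l, hl⟩ := hne
      refine hL3 b T' hb hsumT ⟨l, hl, ?_⟩ ⟨i, ?_, hbi0⟩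
      · exact mem_supp.1 (Finset.mem_of_mem_erase (Finset.mem_of_mem_erase hl))
      · intro hmem
        exact (Finset.mem_erase.1 (Finset.mem_of_mem_erase hmem)).1 rfl
    · push Not at hall
      obtain ⟨j, hj, hji, hκ⟩ := hall
      have hbj0 : b j ≠ 0 := mem_supp.1 hj
      have hκ0 : 1 - b i ^ 2 - b j ^ 2 ≠ 0 := by
        intro h0
        apply hκ
        linear_combination -h0
      -- the three roots
      set v : Fin 3 → κ → F := ![e i, e j, b] with hv
      have hv0 : v 0 = e i := rfl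
      have hv1 : v 1 = e j := rfl
      have hv2 : v 2 = b := rfl
      have hdet : (Cfsg.Agent.Lib.Helper5.F7.H1.FrCLeaf.gram v).det = 1 - b i ^ 2 - b j ^ 2 := by
        rw [Matrix.det_fin_three]
        simp only [Cfsg.Agent.Lib.Helper5.F7.H1.FrCLeaf.gram, Matrix.of_apply, hv0, hv1, hv2,
          Cfsg.Agent.Lib.Helper5.F7.H1.FrCLeaf.dot_e_left, Cfsg.Agent.Lib.Helper5.F7.H1.FrCLeaf.dot_e_right, hb.1,
          Cfsg.Agent.Lib.Helper5.F7.H1.FrCLeaf.e_apply_same, Cfsg.Agent.Lib.Helper5.F7.H1.FrCLeaf.e_apply_ne hji,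
          Cfsg.Agent.Lib.Helper5.F7.H1.FrCLeaf.e_apply_ne (Ne.symm hji)]
        ring
      have hdet0 : (Cfsg.Agent.Lib.Helper5.F7.H1.FrCLeaf.gram v).det ≠ 0 := by rw [hdet]; exact hκ0
      have hRrt : ∀ x ∈ Set.range v, Rt c M x := by
        rintro x ⟨k, rfl⟩
        fin_cases k
        · exact rt_e h i
        · exact rt_e h j
        · exact hb
      have hconn : ∀ k, ∃ k', k' ≠ k ∧ v k' ⬝ᵥ v k ≠ 0 := by
        intro k
        fin_cases k
        · refine ⟨2, by decide, ?_⟩
          change b ⬝ᵥ e i ≠ 0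
          rw [Cfsg.Agent.Lib.Helper5.F7.H1.FrCLeaf.dot_e_right]; exact hbi0
        · refine ⟨2, by decide, ?_⟩
          change b ⬝ᵥ e j ≠ 0
          rw [Cfsg.Agent.Lib.Helper5.F7.H1.FrCLeaf.dot_e_right]; exact hbj0
        · refine ⟨0, by decide, ?_⟩
          change e i ⬝ᵥ b ≠ 0
          rw [Cfsg.Agent.Lib.Helper5.F7.H1.FrCLeaf.dot_e_left]; exact hbi0
      set U := Submodule.span F (Set.range v) with hU
      have hmem : ∀ k, v k ∈ U := fun k => Submodule.subset_span ⟨k, rfl⟩
      rcases hD (Set.range v) hRrt U rfl (Cfsg.Agent.Lib.Helper5.F7.H1.FrCLeaf.gram_finrank hdet0)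
        (Cfsg.Agent.Lib.Helper5.F7.H1.FrCLeaf.gram_nondeg hdet0)
        (Cfsg.Agent.Lib.Helper5.F7.H1.FrCLeaf.gram_irred hdet0 hconn) with hTr | hSm
      · -- `TransU U`: a root with a coordinate `1`
        have hcard2 : 2 ≤ (((supp b).erase i).erase j).card := by
          rw [Finset.card_erase_of_mem (Finset.mem_erase.2 ⟨hji, hj⟩), Finset.card_erase_of_mem hisupp]
          omega
        obtain ⟨l, hl, l', hl', hll'⟩ := Finset.one_lt_card.1 (by omega : 1 < (((supp b).erase i).erase j).card)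
        have hlj : l ≠ j := (Finset.mem_erase.1 hl).1
        have hli : l ≠ i := (Finset.mem_erase.1 (Finset.mem_of_mem_erase hl)).1
        have hbl : b l ≠ 0 := mem_supp.1 (Finset.mem_of_mem_erase (Finset.mem_of_mem_erase hl))
        have hlj' : l' ≠ j := (Finset.mem_erase.1 hl').1
        have hli' : l' ≠ i := (Finset.mem_erase.1 (Finset.mem_of_mem_erase hl')).1
        have hbl' : b l' ≠ 0 := mem_supp.1 (Finset.mem_of_mem_erase (Finset.mem_of_mem_erase hl'))
        set w : F := (b l)⁻¹ with hw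
        obtain ⟨x, y, hxy⟩ := Cfsg.Agent.Lib.Helper5.F7.H1.FrCLeaf.exists_two_squares
          (1 - w ^ 2 * (1 - b i ^ 2 - b j ^ 2))
        set b' : κ → F := b - b i • e i - b j • e j with hb'
        have hb'i : b' ⬝ᵥ e i = 0 := by
          rw [Cfsg.Agent.Lib.Helper5.F7.H1.FrCLeaf.dot_e_right, hb']
          simp only [Pi.sub_apply, Pi.smul_apply, smul_eq_mul, Cfsg.Agent.Lib.Helper5.F7.H1.FrCLeaf.e_apply_same,
            Cfsg.Agent.Lib.Helper5.F7.H1.FrCLeaf.e_apply_ne (Ne.symm hji)]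
          ring
        have hb'j : b' ⬝ᵥ e j = 0 := by
          rw [Cfsg.Agent.Lib.Helper5.F7.H1.FrCLeaf.dot_e_right, hb']
          simp only [Pi.sub_apply, Pi.smul_apply, smul_eq_mul, Cfsg.Agent.Lib.Helper5.F7.H1.FrCLeaf.e_apply_same,
            Cfsg.Agent.Lib.Helper5.F7.H1.FrCLeaf.e_apply_ne hji]
          ring
        have hib' : e i ⬝ᵥ b' = 0 := by rw [dotProduct_comm]; exact hb'i
        have hjb' : e j ⬝ᵥ b' = 0 := by rw [dotProduct_comm]; exact hb'j
        have hb'b : b' ⬝ᵥ b = 1 - b i ^ 2 - b j ^ 2 := by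
          rw [hb', sub_dotProduct, sub_dotProduct, smul_dotProduct, smul_dotProduct,
            Cfsg.Agent.Lib.Helper5.F7.H1.FrCLeaf.dot_e_left, Cfsg.Agent.Lib.Helper5.F7.H1.FrCLeaf.dot_e_left, hb.1]
          simp only [smul_eq_mul]
          ring
        have hb'b' : b' ⬝ᵥ b' = 1 - b i ^ 2 - b j ^ 2 := by
          conv_lhs => rw [hb']
          rw [dotProduct_sub, dotProduct_sub, dotProduct_smul, dotProduct_smul, hb'i, hb'j, hb'b]
          simp
        have heij : (e i : κ → F) ⬝ᵥ e j = 0 := Cfsg.Agent.Lib.Helper5.F7.H1.FrCLeaf.e_dot_e_ne (Ne.symm hji)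
        have heji : (e j : κ → F) ⬝ᵥ e i = 0 := Cfsg.Agent.Lib.Helper5.F7.H1.FrCLeaf.e_dot_e_ne hji
        have heii : (e i : κ → F) ⬝ᵥ e i = 1 := Cfsg.Agent.Lib.Helper5.F7.H1.FrCLeaf.e_dot_e_same i
        have hejj : (e j : κ → F) ⬝ᵥ e j = 1 := Cfsg.Agent.Lib.Helper5.F7.H1.FrCLeaf.e_dot_e_same j
        set u : κ → F := x • e i + y • e j + w • b' with hu
        have huU : u ∈ U := by
          rw [hu, hb']
          have h0 := hmem 0
          have h1 := hmem 1
          have h2 := hmem 2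
          rw [hv0] at h0
          rw [hv1] at h1
          rw [hv2] at h2
          exact U.add_mem (U.add_mem (U.smul_mem _ h0) (U.smul_mem _ h1))
            (U.smul_mem _ (U.sub_mem (U.sub_mem h2 (U.smul_mem _ h0)) (U.smul_mem _ h1)))
        have huu : u ⬝ᵥ u = 1 := by
          rw [hu]
          simp only [add_dotProduct, dotProduct_add, smul_dotProduct, dotProduct_smul, heii, hejj, heij, heji,
            hb'i, hb'j, hib', hjb', hb'b', smul_eq_mul]
          linear_combination hxy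
        have hru : Rt c M u := rt_of_transU' h hTr (by have := hmem 0; rwa [hv0] at this) huU (rt_e h i) huu
        have hul : u l = 1 := by
          rw [hu, hb']
          simp only [Pi.add_apply, Pi.smul_apply, Pi.sub_apply, smul_eq_mul,
            Cfsg.Agent.Lib.Helper5.F7.H1.FrCLeaf.e_apply_ne hli, Cfsg.Agent.Lib.Helper5.F7.H1.FrCLeaf.e_apply_ne hlj]
          rw [hw]
          field_simp
          ring
        have hul' : u l' ≠ 0 := by
          rw [hu, hb']
          simp only [Pi.add_apply, Pi.smul_apply, Pi.sub_apply, smul_eq_mul,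
            Cfsg.Agent.Lib.Helper5.F7.H1.FrCLeaf.e_apply_ne hli', Cfsg.Agent.Lib.Helper5.F7.H1.FrCLeaf.e_apply_ne hlj']
          rw [hw]
          simp only [mul_zero, sub_zero, zero_add]
          exact mul_ne_zero (inv_ne_zero hbl) hbl'
        refine hL2 u l hru (Or.inl hul) ?_ ?_
        · intro heq
          apply hul'
          rw [heq, Cfsg.Agent.Lib.Helper5.F7.H1.FrCLeaf.e_apply_ne (Ne.symm hll')]
        · intro heq
          apply hul'
          rw [heq, Pi.neg_apply, Cfsg.Agent.Lib.Helper5.F7.H1.FrCLeaf.e_apply_ne (Ne.symm hll'), neg_zero]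
      · -- `Small` contradicts D2
        exfalso
        have hg : negRefl (stdQ κ F c) (e i) * negRefl (stdQ κ F c) b ∈
            Subgroup.closure ((negRefl (stdQ κ F c)) '' (Set.range v)) :=
          Subgroup.mul_mem _ (Subgroup.subset_closure ⟨e i, ⟨0, rfl⟩, rfl⟩)
            (Subgroup.subset_closure ⟨b, ⟨2, rfl⟩, rfl⟩)
        obtain ⟨k, hk1, hk5, hkp, hfix⟩ := hSm _ hg
        have h0 := hmem 0
        have h2 := hmem 2
        rw [hv0] at h0
        rw [hv2] at h2
        have := (Cfsg.Agent.Lib.Helper5.F7.H6.FrCLeaf.order_pair h.hc h.prime h5 (dot_e i) hb.1 hk1 hk5 hkp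
          (hfix _ h0) (hfix _ h2)).1
        rw [Cfsg.Agent.Lib.Helper5.F7.H1.FrCLeaf.dot_e_left] at this
        exact hi this

end Cfsg.Agent.Lib.Helper5.F7.H15.FrCLeaf
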